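import Mathlib

/-! Semidirect products of an additive group by a group acting through a homomorphism to the
endomorphism monoid. -/

set_option autoImplicit false

namespace Cfsg.Agent.H380

/-- The semidirect product of `M` by `K`, acting through `ρ`. -/
@[ext]
structure SDP {K M : Type*} [Group K] [AddCommGroup M] (ρ : K →* AddMonoid.End M) where
  /-- The module part. -/
  l : M
  /-- The group part. -/
  r : K

namespace SDP

variable {K M : Type*} [Group K] [AddCommGroup M] {ρ : K →* AddMonoid.End M}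

instance instMulSDP : Mul (SDP ρ) := ⟨fun a b => ⟨a.l + ρ a.r b.l, a.r * b.r⟩⟩
instance instOneSDP : One (SDP ρ) := ⟨⟨0, 1⟩⟩
instance instInvSDP : Inv (SDP ρ) := ⟨fun a => ⟨-(ρ a.r⁻¹ a.l), a.r⁻¹⟩⟩

theorem mul_l (a b : SDP ρ) : (a * b).l = a.l + ρ a.r b.l := rfl
theorem mul_r (a b : SDP ρ) : (a * b).r = a.r * b.r := rfl
theorem one_l : (1 : SDP ρ).l = 0 := rfl
theorem one_r : (1 : SDP ρ).r = 1 := rfl
theorem inv_l (a : SDP ρ) : (a⁻¹).l = -(ρ a.r⁻¹ a.l) := rfl
theorem inv_r (a : SDP ρ) : (a⁻¹).r = a.r⁻¹ := rfl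

instance instGroupSDP : Group (SDP ρ) where
  mul_assoc a b c := by
    ext
    · simp only [mul_l, mul_r, map_mul, map_add, add_assoc]; rfl
    · simp only [mul_r, mul_assoc]
  one_mul a := by
    ext
    · simp [mul_l, one_l, one_r]
    · simp [mul_r, one_r]
  mul_one a := by
    ext
    · simp [mul_l, one_l]
    · simp [mul_r, one_r]
  inv_mul_cancel a := by
    ext
    · simp [mul_l, inv_l, inv_r, one_l]
    · simp [mul_r, inv_r, one_r]

theorem pow_r (a : SDP ρ) (n : ℕ) : (a ^ n).r = a.r ^ n := by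
  induction n with
  | zero => simp [one_r]
  | succ n ih => rw [pow_succ, mul_r, ih, pow_succ]

theorem pow_l (a : SDP ρ) (n : ℕ) : (a ^ n).l = ∑ i ∈ Finset.range n, ρ (a.r ^ i) a.l := by
  induction n with
  | zero => simp [one_l]
  | succ n ih => rw [pow_succ, mul_l, ih, pow_r, Finset.sum_range_succ]

instance instFiniteSDP [Finite K] [Finite M] : Finite (SDP ρ) :=
  Finite.of_injective (fun a : SDP ρ => (a.l, a.r)) (by
    intro a b h
    simp only [Prod.mk.injEq] at h
    exact SDP.ext h.1 h.2)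

/-- The projection to the group part. -/
def proj (ρ : K →* AddMonoid.End M) : SDP ρ →* K where
  toFun := SDP.r
  map_one' := rfl
  map_mul' _ _ := rfl

theorem mem_ker_proj {a : SDP ρ} : a ∈ (proj ρ).ker ↔ a.r = 1 := MonoidHom.mem_ker

theorem ker_comm (a b : (proj ρ).ker) : a * b = b * a := by
  have ha : a.1.r = 1 := mem_ker_proj.1 a.2
  have hb : b.1.r = 1 := mem_ker_proj.1 b.2
  apply Subtype.ext
  change a.1 * b.1 = b.1 * a.1
  ext
  · simp [mul_l, ha, hb, add_comm]
  · simp [mul_r, ha, hb]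

theorem ker_solvable : Group.IsSolvable (proj ρ).ker := Group.isSolvable_of_comm ker_comm

theorem ker_ne_bot [Nontrivial M] : (proj ρ).ker ≠ ⊥ := by
  obtain ⟨m, hm⟩ := exists_ne (0 : M)
  intro h
  have h1 : (⟨m, 1⟩ : SDP ρ) ∈ (proj ρ).ker := mem_ker_proj.2 rfl
  rw [h, Subgroup.mem_bot] at h1
  exact hm (congrArg SDP.l h1)

/-- A power whose group part is trivial. -/
theorem pow_mul_eq_one {a : SDP ρ} {n m : ℕ} (hr : a.r ^ n = 1) (hm : m • (a ^ n).l = 0) :
    a ^ (n * m) = 1 := by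
  rw [pow_mul]
  have h1 : (a ^ n).r = 1 := by rw [pow_r, hr]
  ext
  · rw [pow_l, h1, one_l]
    simpa using hm
  · rw [pow_r, h1, one_pow, one_r]

/-- If some power of the group part acts as `-1` and is an involution, then the corresponding double power
is trivial. -/
theorem pow_two_mul_eq_one {a : SDP ρ} {n : ℕ} {z : K} (hz : z * z = 1) (hρ : ∀ m, ρ z m = -m)
    (hn : a.r ^ n = z) : a ^ (n * 2) = 1 := by
  rw [pow_mul, pow_two]
  have h1 : (a ^ n).r = z := by rw [pow_r, hn]
  ext
  · rw [mul_l, h1, hρ, add_neg_cancel, one_l]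
  · rw [mul_r, h1, hz, one_r]

end SDP

end Cfsg.Agent.H380
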