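import Cfsg.Agent.H380.TwoS5
import Cfsg.Agent.H380.SDP
import Cfsg.Agent.H380.AltSpecTen

/-! A group with a normal abelian subgroup and the element orders of `A₁₀`. -/

set_option autoImplicit false

namespace Cfsg.Agent.H380.IsoTen

open Cfsg.Agent.H380 Cfsg.Agent.H380.TwoS5 Matrix

theorem v_injective : Function.Injective v := fun _ _ h => Subtype.ext h

/-- The matrix of an element of `K`, as a homomorphism. -/
def vK : K →* M4 := v.comp K.subtype

theorem vK_injective : Function.Injective vK := v_injective.comp K.subtype_injective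

theorem P_vK (k : K) : P (vK k) := by
  obtain ⟨σ, hσ⟩ := k.2
  exact P_of_S hσ

/-- Words as elements of `K`. -/
def wd (l : List (Fin 4)) : K := ⟨word l, wordPerm l, S_word l⟩

theorem vK_wd (l : List (Fin 4)) : vK (wd l) = (l.map t).prod := v_word l

/-- The central involution. -/
def z : K := wd [0, 0]

theorem vK_z : vK z = -1 := by
  rw [z, vK_wd]; decide +kernel

theorem z_mul_z : z * z = 1 := by
  apply vK_injective
  rw [map_mul, vK_z, map_one]; simp

theorem z_comm (k : K) : k * z = z * k := by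
  apply vK_injective
  rw [map_mul, map_mul, vK_z]; simp

theorem z_mul_eq_one {k : K} : z * k = 1 ↔ k = z := by
  constructor
  · intro h
    have := congrArg (fun x => z * x) h
    simpa [← mul_assoc, z_mul_z] using this
  · rintro rfl; exact z_mul_z

theorem z_mul_eq_z {k : K} : z * k = z ↔ k = 1 := by simp

theorem z_ne_one : z ≠ 1 := by
  intro h
  have h1 := vK_z
  rw [h, map_one] at h1
  exact absurd h1 (by decide +kernel)

/-- The module in characteristic three. -/
def W : AddSubgroup (K → ZMod 3) where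
  carrier := {g | ∀ k, g (z * k) = -(g k)}
  zero_mem' := by intro k; simp
  add_mem' := by
    intro a b ha hb k
    rw [Pi.add_apply, Pi.add_apply, ha, hb, neg_add]
  neg_mem' := by
    intro a ha k
    rw [Pi.neg_apply, Pi.neg_apply, ha]

/-- The whole module. -/
abbrev Mod := (Fin 4 → ZMod 7) × W

/-- The action on `W`. -/
def actW (k : K) : W →+ W where
  toFun g := ⟨fun x => g.1 (x * k), fun x => by
    change g.1 (z * x * k) = -(g.1 (x * k))
    rw [mul_assoc]; exact g.2 (x * k)⟩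
  map_zero' := by apply Subtype.ext; rfl
  map_add' a b := by apply Subtype.ext; rfl

/-- The action on the module. -/
def ρ : K →* AddMonoid.End Mod where
  toFun k := AddMonoidHom.prodMap ((Matrix.mulVecLin (vK k)).toAddMonoidHom) (actW k)
  map_one' := by
    ext x
    · rename_i i
      change (Matrix.mulVecLin (vK 1)) x.1 i = x.1 i
      rw [map_one]
      simp
    · rename_i i
      change x.2.1 (i * 1) = x.2.1 i
      rw [mul_one]
  map_mul' a b := by
    ext x
    · rename_i i
      change (Matrix.mulVecLin (vK (a * b))) x.1 i = (Matrix.mulVecLin (vK a)) ((Matrix.mulVecLin (vK b)) x.1) i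
      rw [map_mul]
      simp
    · rename_i i
      change x.2.1 (i * (a * b)) = x.2.1 ((i * a) * b)
      rw [mul_assoc]

theorem ρ_fst (k : K) (m : Mod) : (ρ k m).1 = (vK k) *ᵥ m.1 := rfl
theorem ρ_snd (k : K) (m : Mod) (x : K) : (ρ k m).2.1 x = m.2.1 (x * k) := rfl

theorem ρ_z (m : Mod) : ρ z m = -m := by
  apply Prod.ext
  · rw [ρ_fst, vK_z, Matrix.neg_mulVec, Matrix.one_mulVec]; rfl
  · apply Subtype.ext
    funext x
    rw [ρ_snd, z_comm]
    exact m.2.2 x

/-- The group isospectral with `A₁₀`. -/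
abbrev H := SDP ρ

theorem pow_fst (a : H) (n : ℕ) : (a ^ n).l.1 = (∑ i ∈ Finset.range n, (vK a.r) ^ i) *ᵥ a.l.1 := by
  have e : ∀ i, (ρ (a.r ^ i) a.l).1 = (vK a.r) ^ i *ᵥ a.l.1 := by
    intro i; rw [ρ_fst, map_pow]
  rw [SDP.pow_l, Prod.fst_sum, Matrix.sum_mulVec]
  exact Finset.sum_congr rfl fun i _ => e i

theorem pow_snd (a : H) (n : ℕ) (x : K) : (a ^ n).l.2.1 x = ∑ i ∈ Finset.range n, a.l.2.1 (x * a.r ^ i) := by
  rw [SDP.pow_l, Prod.snd_sum, AddSubgroup.val_finsetSum, Finset.sum_apply]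
  exact Finset.sum_congr rfl fun i _ => ρ_snd _ _ _

theorem three_W (w : W) : (3 : ℕ) • w = 0 := by
  apply Subtype.ext
  funext x
  change (3 : ℕ) • (w.1 x) = 0
  rw [nsmul_eq_mul]
  have : ((3 : ℕ) : ZMod 3) = 0 := by decide
  rw [this, zero_mul]

theorem seven_V (u : Fin 4 → ZMod 7) : (7 : ℕ) • u = 0 := by
  funext x
  change (7 : ℕ) • (u x) = 0
  rw [nsmul_eq_mul]
  have : ((7 : ℕ) : ZMod 7) = 0 := by decide
  rw [this, zero_mul]

theorem twentyone_Mod (m : Mod) : (21 : ℕ) • m = 0 := by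
  apply Prod.ext
  · change (21 : ℕ) • m.1 = 0
    rw [show 21 = 3 * 7 by rfl, mul_nsmul', seven_V, smul_zero]
  · change (21 : ℕ) • m.2 = 0
    rw [show 21 = 7 * 3 by rfl, mul_nsmul', three_W, smul_zero]

theorem orderOf_mem (a : H) : orderOf a ∈ [1, 2, 3, 4, 5, 6, 7, 8, 9, 10, 12, 15, 21] := by
  have hdiv : ∀ n ∈ [21, 9, 15, 2, 4, 6, 8, 10, 12], a ^ n = 1 →
      orderOf a ∈ [1, 2, 3, 4, 5, 6, 7, 8, 9, 10, 12, 15, 21] := by
    intro n hn h
    have h1 : orderOf a ∈ Nat.divisors n := by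
      rw [Nat.mem_divisors]
      refine ⟨orderOf_dvd_of_pow_eq_one h, ?_⟩
      rintro rfl
      revert hn; decide
    have h2 : ∀ n ∈ [21, 9, 15, 2, 4, 6, 8, 10, 12], ∀ d ∈ Nat.divisors n,
        d ∈ [1, 2, 3, 4, 5, 6, 7, 8, 9, 10, 12, 15, 21] := by decide
    exact h2 n hn _ h1
  have hneg : ∀ n, n * 2 ∈ [21, 9, 15, 2, 4, 6, 8, 10, 12] → (vK a.r) ^ n = -1 →
      orderOf a ∈ [1, 2, 3, 4, 5, 6, 7, 8, 9, 10, 12, 15, 21] := by
    intro n hn h
    apply hdiv (n * 2) hn
    apply SDP.pow_two_mul_eq_one z_mul_z ρ_z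
    apply vK_injective
    rw [map_pow, h, vK_z]
  rcases P_vK a.r with h | h | h | h | h | h | h | h | h
  · -- trivial group part
    apply hdiv (1 * 21) (by decide)
    apply SDP.pow_mul_eq_one
    · rw [pow_one]; apply vK_injective; rw [h, map_one]
    · rw [pow_one]
      exact twentyone_Mod a.l
  · apply hdiv (3 * 3) (by decide)
    apply SDP.pow_mul_eq_one
    · apply vK_injective
      rw [map_pow, map_one]
      have : vK a.r ^ 3 - 1 = (vK a.r - 1) * (vK a.r ^ 2 + vK a.r + 1) := by noncomm_ring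
      rw [h, mul_zero, sub_eq_zero] at this
      exact this
    · apply Prod.ext
      · change 3 • (a ^ 3).l.1 = 0
        rw [pow_fst]
        simp only [Finset.sum_range_succ, Finset.sum_range_zero, zero_add, pow_zero, pow_one]
        rw [show 1 + vK a.r + vK a.r ^ 2 = vK a.r ^ 2 + vK a.r + 1 by abel, h]
        simp
      · change 3 • (a ^ 3).l.2 = 0
        exact three_W _
  · apply hdiv (5 * 3) (by decide)
    apply SDP.pow_mul_eq_one
    · apply vK_injective
      rw [map_pow, map_one]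
      have : vK a.r ^ 5 - 1 = (vK a.r - 1) * (vK a.r ^ 4 + vK a.r ^ 3 + vK a.r ^ 2 + vK a.r + 1) := by
        noncomm_ring
      rw [h, mul_zero, sub_eq_zero] at this
      exact this
    · apply Prod.ext
      · change 3 • (a ^ 5).l.1 = 0
        rw [pow_fst]
        simp only [Finset.sum_range_succ, Finset.sum_range_zero, zero_add, pow_zero, pow_one]
        rw [show 1 + vK a.r + vK a.r ^ 2 + vK a.r ^ 3 + vK a.r ^ 4 =
          vK a.r ^ 4 + vK a.r ^ 3 + vK a.r ^ 2 + vK a.r + 1 by abel, h]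
        simp
      · change 3 • (a ^ 5).l.2 = 0
        exact three_W _
  · exact hneg 1 (by decide) h
  · exact hneg 2 (by decide) h
  · exact hneg 3 (by decide) h
  · exact hneg 4 (by decide) h
  · exact hneg 5 (by decide) h
  · exact hneg 6 (by decide) h

open Classical in
/-- The basic odd function. -/
noncomputable def w0 : W := ⟨fun x => if x = 1 then 1 else if x = z then -1 else 0, by
  intro k
  change (if z * k = 1 then (1 : ZMod 3) else if z * k = z then -1 else 0) =
    -(if k = 1 then (1 : ZMod 3) else if k = z then -1 else 0)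
  by_cases h1 : k = 1
  · subst h1
    rw [mul_one, if_pos rfl, if_neg z_ne_one, if_pos rfl]
  · by_cases h2 : k = z
    · subst h2
      rw [z_mul_z, if_pos rfl, if_neg z_ne_one, if_pos rfl, neg_neg]
    · rw [if_neg (fun h => h2 (z_mul_eq_one.1 h)), if_neg (fun h => h1 (z_mul_eq_z.1 h)), if_neg h1, if_neg h2,
        neg_zero]⟩

theorem w0_one : w0.1 1 = 1 := by
  change (if (1 : K) = 1 then (1 : ZMod 3) else if (1 : K) = z then -1 else 0) = 1
  rw [if_pos rfl]

theorem w0_of_ne {k : K} (h1 : k ≠ 1) (h2 : k ≠ z) : w0.1 k = 0 := by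
  change (if k = 1 then (1 : ZMod 3) else if k = z then -1 else 0) = 0
  rw [if_neg h1, if_neg h2]

/-- Elements with group part of odd order `n` lifting to elements of order `3 n`. -/
theorem pow_ne_one {k : K} {n : ℕ} (hn : 0 < n) (hk : ∀ i, 0 < i → i < n → k ^ i ≠ 1 ∧ k ^ i ≠ z) :
    (⟨(0, w0), k⟩ : H) ^ n ≠ 1 := by
  intro h
  have h1 : ((⟨(0, w0), k⟩ : H) ^ n).l.2.1 1 = 0 := by rw [h]; rfl
  rw [pow_snd] at h1
  have h2 : ∑ i ∈ Finset.range n, w0.1 (1 * k ^ i) = w0.1 (1 * k ^ 0) := by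
    apply Finset.sum_eq_single 0
    · intro i hi hi0
      rw [one_mul]
      have := hk i (Nat.pos_of_ne_zero hi0) (Finset.mem_range.1 hi)
      exact w0_of_ne this.1 this.2
    · intro h; exact absurd (Finset.mem_range.2 hn) h
  change ∑ i ∈ Finset.range n, w0.1 (1 * k ^ i) = 0 at h1
  rw [h2, pow_zero, one_mul, w0_one] at h1
  exact absurd h1 (by decide)

theorem vK_pow_wd (l : List (Fin 4)) (i : ℕ) : vK (wd l ^ i) = (l.map t).prod ^ i := by
  rw [map_pow, vK_wd]

theorem ne_one_of (l : List (Fin 4)) (i : ℕ) (h : (l.map t).prod ^ i ≠ 1) : wd l ^ i ≠ 1 := by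
  intro h'
  apply h
  rw [← vK_pow_wd, h', map_one]

theorem ne_z_of (l : List (Fin 4)) (i : ℕ) (h : (l.map t).prod ^ i ≠ -1) : wd l ^ i ≠ z := by
  intro h'
  apply h
  rw [← vK_pow_wd, h', vK_z]

theorem r_ne {a : H} {n : ℕ} (h : a.r ^ n ≠ 1) : a ^ n ≠ 1 := by
  intro h'
  apply h
  rw [← SDP.pow_r, h', SDP.one_r]

theorem exists_eight : ∃ a : H, orderOf a = 8 := by
  refine ⟨⟨0, wd [0, 1, 2]⟩, ?_⟩
  apply orderOf_eq_prime_pow (p := 2) (n := 2)
  · exact r_ne (ne_one_of _ 4 (by decide +kernel))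
  · apply SDP.pow_two_mul_eq_one (n := 4) z_mul_z ρ_z
    apply vK_injective
    rw [vK_pow_wd, vK_z]
    decide +kernel

theorem exists_ten : ∃ a : H, orderOf a = 10 := by
  refine ⟨⟨0, wd [0, 1, 2, 3]⟩, ?_⟩
  apply orderOf_eq_of_pow_and_pow_div_prime (by norm_num)
  · apply SDP.pow_two_mul_eq_one (n := 5) z_mul_z ρ_z
    apply vK_injective
    rw [vK_pow_wd, vK_z]
    decide +kernel
  · intro p hp hd
    have hp' : p = 2 ∨ p = 5 := by
      have := (Nat.Prime.dvd_mul hp).1 (show p ∣ 2 * 5 from hd)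
      rcases this with h | h
      · exact Or.inl ((Nat.prime_dvd_prime_iff_eq hp Nat.prime_two).1 h)
      · exact Or.inr ((Nat.prime_dvd_prime_iff_eq hp (by norm_num)).1 h)
    rcases hp' with rfl | rfl
    · exact r_ne (ne_one_of _ 5 (by decide +kernel))
    · exact r_ne (ne_one_of _ 2 (by decide +kernel))

theorem exists_twelve : ∃ a : H, orderOf a = 12 := by
  refine ⟨⟨0, wd [0, 1, 3]⟩, ?_⟩
  apply orderOf_eq_of_pow_and_pow_div_prime (by norm_num)
  · apply SDP.pow_two_mul_eq_one (n := 6) z_mul_z ρ_z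
    apply vK_injective
    rw [vK_pow_wd, vK_z]
    decide +kernel
  · intro p hp hd
    have hp' : p = 2 ∨ p = 3 := by
      have := (Nat.Prime.dvd_mul hp).1 (show p ∣ 4 * 3 from hd)
      rcases this with h | h
      · exact Or.inl ((Nat.prime_dvd_prime_iff_eq hp Nat.prime_two).1
          (hp.dvd_of_dvd_pow (n := 2) (by simpa using h)))
      · exact Or.inr ((Nat.prime_dvd_prime_iff_eq hp (by norm_num)).1 h)
    rcases hp' with rfl | rfl
    · exact r_ne (ne_one_of _ 6 (by decide +kernel))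
    · exact r_ne (ne_one_of _ 4 (by decide +kernel))

theorem exists_nine : ∃ a : H, orderOf a = 9 := by
  refine ⟨⟨(0, w0), wd [0, 1, 0, 1]⟩, ?_⟩
  have : Fact (Nat.Prime 3) := ⟨by norm_num⟩
  apply orderOf_eq_prime_pow (p := 3) (n := 1)
  · apply pow_ne_one (by norm_num)
    intro i h1 h2
    have h3 : i = 1 ∨ i = 2 := by omega
    rcases h3 with rfl | rfl
    · exact ⟨ne_one_of _ 1 (by decide +kernel), ne_z_of _ 1 (by decide +kernel)⟩
    · exact ⟨ne_one_of _ 2 (by decide +kernel), ne_z_of _ 2 (by decide +kernel)⟩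
  · apply SDP.pow_mul_eq_one (n := 3) (m := 3)
    · apply vK_injective
      rw [vK_pow_wd, map_one]
      decide +kernel
    · apply Prod.ext
      · change 3 • (_ ^ 3 : H).l.1 = 0
        rw [pow_fst]
        change 3 • (_ *ᵥ (0 : Fin 4 → ZMod 7)) = 0
        rw [Matrix.mulVec_zero, smul_zero]
      · exact three_W _

theorem exists_fifteen : ∃ a : H, orderOf a = 15 := by
  refine ⟨⟨(0, w0), wd [0, 1, 2, 3, 0, 1, 2, 3]⟩, ?_⟩
  apply orderOf_eq_of_pow_and_pow_div_prime (by norm_num)
  · apply SDP.pow_mul_eq_one (n := 5) (m := 3)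
    · apply vK_injective
      rw [vK_pow_wd, map_one]
      decide +kernel
    · apply Prod.ext
      · change 3 • (_ ^ 5 : H).l.1 = 0
        rw [pow_fst]
        change 3 • (_ *ᵥ (0 : Fin 4 → ZMod 7)) = 0
        rw [Matrix.mulVec_zero, smul_zero]
      · exact three_W _
  · intro p hp hd
    have hp' : p = 3 ∨ p = 5 := by
      have := (Nat.Prime.dvd_mul hp).1 (show p ∣ 3 * 5 from hd)
      rcases this with h | h
      · exact Or.inl ((Nat.prime_dvd_prime_iff_eq hp (by norm_num)).1 h)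
      · exact Or.inr ((Nat.prime_dvd_prime_iff_eq hp (by norm_num)).1 h)
    rcases hp' with rfl | rfl
    · apply pow_ne_one (by norm_num)
      intro i h1 h2
      have h3 : i = 1 ∨ i = 2 ∨ i = 3 ∨ i = 4 := by omega
      rcases h3 with rfl | rfl | rfl | rfl
      · exact ⟨ne_one_of _ 1 (by decide +kernel), ne_z_of _ 1 (by decide +kernel)⟩
      · exact ⟨ne_one_of _ 2 (by decide +kernel), ne_z_of _ 2 (by decide +kernel)⟩
      · exact ⟨ne_one_of _ 3 (by decide +kernel), ne_z_of _ 3 (by decide +kernel)⟩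
      · exact ⟨ne_one_of _ 4 (by decide +kernel), ne_z_of _ 4 (by decide +kernel)⟩
    · exact r_ne (ne_one_of _ 3 (by decide +kernel))

/-- The element of order 21. -/
noncomputable def e21 : H := ⟨((fun _ => 1), w0), 1⟩

theorem e21_pow (n : ℕ) : (e21 ^ n).l = n • e21.l := by
  rw [SDP.pow_l]
  have : ∀ i ∈ Finset.range n, ρ (e21.r ^ i) e21.l = e21.l := by
    intro i _
    have h1 : e21.r = 1 := rfl
    rw [h1, one_pow, map_one]; rfl
  rw [Finset.sum_congr rfl this, Finset.sum_const, Finset.card_range]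

theorem e21_ne (n : ℕ) (h : e21 ^ n = 1) : ((n : ℕ) : ZMod 7) = 0 ∧ ((n : ℕ) : ZMod 3) = 0 := by
  have h1 := congrArg SDP.l h
  rw [e21_pow, SDP.one_l] at h1
  constructor
  · have h2 : n • e21.l.1 = 0 := congrArg Prod.fst h1
    have h3 : n • (e21.l.1 0) = 0 := congrFun h2 0
    have h4 : e21.l.1 0 = 1 := rfl
    rw [h4, nsmul_eq_mul, mul_one] at h3
    exact h3
  · have h2 : n • e21.l.2 = 0 := congrArg Prod.snd h1
    have h3 : n • (e21.l.2.1 1) = 0 := congrArg (fun w : W => w.1 1) h2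
    have h4 : e21.l.2.1 1 = 1 := w0_one
    rw [h4, nsmul_eq_mul, mul_one] at h3
    exact h3

theorem exists_twentyone : ∃ a : H, orderOf a = 21 := by
  refine ⟨e21, ?_⟩
  apply orderOf_eq_of_pow_and_pow_div_prime (by norm_num)
  · apply SDP.ext
    · exact (e21_pow 21).trans (twentyone_Mod e21.l)
    · rw [SDP.pow_r]
      exact one_pow _
  · intro p hp' hd
    have hp'' : p = 3 ∨ p = 7 := by
      have := (Nat.Prime.dvd_mul hp').1 (show p ∣ 3 * 7 from hd)
      rcases this with h | h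
      · exact Or.inl ((Nat.prime_dvd_prime_iff_eq hp' (by norm_num)).1 h)
      · exact Or.inr ((Nat.prime_dvd_prime_iff_eq hp' (by norm_num)).1 h)
    rcases hp'' with rfl | rfl
    · intro h
      exact absurd (e21_ne _ h).2 (by decide)
    · intro h
      exact absurd (e21_ne _ h).1 (by decide)

theorem range_H : Set.range (orderOf : H → ℕ) = {n | n ∈ [1, 2, 3, 4, 5, 6, 7, 8, 9, 10, 12, 15, 21]} := by
  have hdvd : ∀ N n : ℕ, (∃ a : H, orderOf a = N) → n ∣ N → N ≠ 0 → n ∈ Set.range (orderOf : H → ℕ) := by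
    rintro N n ⟨a, ha⟩ ⟨m, hm⟩ hN
    refine ⟨a ^ m, ?_⟩
    have hm0 : m ≠ 0 := by rintro rfl; exact hN (by rw [hm, mul_zero])
    rw [orderOf_pow_of_dvd hm0 (by rw [ha, hm]; exact dvd_mul_left m n), ha, hm,
      Nat.mul_div_cancel _ (Nat.pos_of_ne_zero hm0)]
  ext n
  constructor
  · rintro ⟨a, rfl⟩
    exact orderOf_mem a
  · intro hn
    change n ∈ [1, 2, 3, 4, 5, 6, 7, 8, 9, 10, 12, 15, 21] at hn
    simp only [List.mem_cons, List.not_mem_nil, or_false] at hn
    rcases hn with rfl | rfl | rfl | rfl | rfl | rfl | rfl | rfl | rfl | rfl | rfl | rfl | rfl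
    · exact hdvd 8 _ exists_eight (by norm_num) (by norm_num)
    · exact hdvd 8 _ exists_eight (by norm_num) (by norm_num)
    · exact hdvd 9 _ exists_nine (by norm_num) (by norm_num)
    · exact hdvd 8 _ exists_eight (by norm_num) (by norm_num)
    · exact hdvd 10 _ exists_ten (by norm_num) (by norm_num)
    · exact hdvd 12 _ exists_twelve (by norm_num) (by norm_num)
    · exact hdvd 21 _ exists_twentyone (by norm_num) (by norm_num)
    · exact hdvd 8 _ exists_eight (by norm_num) (by norm_num)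
    · exact hdvd 9 _ exists_nine (by norm_num) (by norm_num)
    · exact hdvd 10 _ exists_ten (by norm_num) (by norm_num)
    · exact hdvd 12 _ exists_twelve (by norm_num) (by norm_num)
    · exact hdvd 15 _ exists_fifteen (by norm_num) (by norm_num)
    · exact hdvd 21 _ exists_twentyone (by norm_num) (by norm_num)

end Cfsg.Agent.H380.IsoTen
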