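import Mathlib

/-! The double cover `2·S₅` with quaternion Sylow subgroups, as a group of `4 × 4` matrices over the field
with seven elements, through the basic spin representation. -/

set_option autoImplicit false

namespace Cfsg.Agent.H380.TwoS5

open Matrix

abbrev M4 := Matrix (Fin 4) (Fin 4) (ZMod 7)

/-- Lifts of the transpositions `(i, i+1)`. -/
def t : Fin 4 → M4 :=
  ![!![0, 0, 0, 1; 0, 0, 1, 0; 0, 6, 0, 0; 6, 0, 0, 0],
    !![0, 0, 1, 3; 0, 0, 3, 1; 1, 4, 0, 0; 4, 1, 0, 0],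
    !![2, 0, 4, 0; 0, 2, 0, 4; 4, 0, 5, 0; 0, 4, 0, 5],
    !![2, 0, 0, 3; 0, 2, 4, 0; 0, 4, 5, 0; 3, 0, 0, 5]]

/-- The five vectors permuted up to sign. -/
def f : Fin 5 → M4 :=
  ![!![4, 0, 5, 6; 0, 4, 2, 5; 5, 1, 3, 0; 5, 5, 0, 3],
    !![4, 0, 5, 5; 0, 4, 1, 5; 5, 2, 3, 0; 6, 5, 0, 3],
    !![4, 0, 4, 2; 0, 4, 5, 4; 4, 5, 3, 0; 2, 4, 0, 3],
    !![2, 0, 0, 2; 0, 2, 5, 0; 0, 5, 5, 0; 2, 0, 0, 5],
    !![0, 0, 0, 6; 0, 0, 1, 0; 0, 1, 0, 0; 6, 0, 0, 0]]

theorem t_f : ∀ (j : Fin 4) (i : Fin 5), t j * f i = -(f (Equiv.swap j.castSucc j.succ i) * t j) := by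
  decide +kernel

theorem t_sq : ∀ j : Fin 4, t j * t j = -1 := by decide +kernel

theorem det_t : ∀ j : Fin 4, (t j).det = 1 := by decide +kernel

theorem t_eq : ∀ j : Fin 4, t j = f j.castSucc - f j.succ := by decide +kernel

/-- `A` normalizes the configuration, inducing `σ`. -/
def S (σ : Equiv.Perm (Fin 5)) (A : M4) : Prop :=
  ∀ i, A * f i = ((Equiv.Perm.sign σ : ℤ) : ZMod 7) • (f (σ i) * A)

theorem S_one : S 1 1 := by
  intro i
  simp

theorem S_mul {σ τ : Equiv.Perm (Fin 5)} {A B : M4} (hA : S σ A) (hB : S τ B) : S (σ * τ) (A * B) := by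
  intro i
  rw [mul_assoc, hB i, mul_smul_comm, ← mul_assoc, hA (τ i), smul_mul_assoc, smul_smul, mul_assoc,
    Equiv.Perm.sign_mul, Equiv.Perm.mul_apply, Units.val_mul, Int.cast_mul, mul_comm (((Equiv.Perm.sign σ : ℤ) : ZMod 7))]

theorem S_pow {σ : Equiv.Perm (Fin 5)} {A : M4} (hA : S σ A) (n : ℕ) : S (σ ^ n) (A ^ n) := by
  induction n with
  | zero => rw [pow_zero, pow_zero]; exact S_one
  | succ n ih => rw [pow_succ, pow_succ]; exact S_mul ih hA

theorem S_t (j : Fin 4) : S (Equiv.swap j.castSucc j.succ) (t j) := by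
  intro i
  have hne : j.castSucc ≠ j.succ := by
    intro h
    have := congrArg Fin.val h
    simp at this
  rw [t_f j i, Equiv.Perm.sign_swap hne]
  simp

theorem comm_t {A : M4} (hA : S 1 A) (j : Fin 4) : A * t j = t j * A := by
  have h : ∀ i, A * f i = f i * A := by
    intro i
    have := hA i
    simpa using this
  rw [t_eq, mul_sub, sub_mul, h, h]

theorem scalar_of_comm {A : M4} (hA : ∀ j, A * t j = t j * A) : A = A 0 0 • (1 : M4) := by
  have ha : A * !![0, 0, 0, 1; 0, 0, 1, 0; 0, 6, 0, 0; 6, 0, 0, 0] =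
      !![0, 0, 0, 1; 0, 0, 1, 0; 0, 6, 0, 0; 6, 0, 0, 0] * A := hA 0
  have hb : A * !![0, 0, 1, 0; 0, 0, 0, 1; 1, 0, 0, 0; 0, 1, 0, 0] =
      !![0, 0, 1, 0; 0, 0, 0, 1; 1, 0, 0, 0; 0, 1, 0, 0] * A := by
    have e : (!![0, 0, 1, 0; 0, 0, 0, 1; 1, 0, 0, 0; 0, 1, 0, 0] : M4) = t 1 - (3 : ZMod 7) • t 0 := by
      decide +kernel
    rw [e, mul_sub, sub_mul, mul_smul_comm, smul_mul_assoc, hA, hA]
  have hc : A * !![1, 0, 0, 0; 0, 1, 0, 0; 0, 0, 6, 0; 0, 0, 0, 6] =
      !![1, 0, 0, 0; 0, 1, 0, 0; 0, 0, 6, 0; 0, 0, 0, 6] * A := by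
    have e : (!![1, 0, 0, 0; 0, 1, 0, 0; 0, 0, 6, 0; 0, 0, 0, 6] : M4) =
      (4 : ZMod 7) • t 2 - (2 : ZMod 7) • (t 1 - (3 : ZMod 7) • t 0) := by
      decide +kernel
    rw [e, mul_sub, sub_mul, mul_smul_comm, smul_mul_assoc, mul_smul_comm, smul_mul_assoc, hA,
      mul_sub, sub_mul, mul_smul_comm, smul_mul_assoc, hA, hA]
  have hd : A * !![0, 0, 0, 1; 0, 0, 6, 0; 0, 6, 0, 0; 1, 0, 0, 0] =
      !![0, 0, 0, 1; 0, 0, 6, 0; 0, 6, 0, 0; 1, 0, 0, 0] * A := by
    have e : (!![0, 0, 0, 1; 0, 0, 6, 0; 0, 6, 0, 0; 1, 0, 0, 0] : M4) =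
      (5 : ZMod 7) • t 3 - (3 : ZMod 7) • (!![1, 0, 0, 0; 0, 1, 0, 0; 0, 0, 6, 0; 0, 0, 0, 6] : M4) := by
      decide +kernel
    rw [e, mul_sub, sub_mul, mul_smul_comm, smul_mul_assoc, mul_smul_comm, smul_mul_assoc, hA, hc]
  have key : ∀ x : ZMod 7, x * 6 = x → x = 0 := by decide
  have key' : ∀ x : ZMod 7, x = 6 * x → x = 0 := by decide
  have c01 := congrFun (congrFun hc 0) 2
  have c02 := congrFun (congrFun hc 0) 3
  have c03 := congrFun (congrFun hc 1) 2
  have c04 := congrFun (congrFun hc 1) 3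
  have c05 := congrFun (congrFun hc 2) 0
  have c06 := congrFun (congrFun hc 2) 1
  have c07 := congrFun (congrFun hc 3) 0
  have c08 := congrFun (congrFun hc 3) 1
  have b1 := congrFun (congrFun hb 0) 2
  have b2 := congrFun (congrFun hb 0) 3
  have b3 := congrFun (congrFun hb 1) 2
  have b4 := congrFun (congrFun hb 1) 3
  have a1 := congrFun (congrFun ha 0) 3
  have a2 := congrFun (congrFun ha 0) 2
  have a3 := congrFun (congrFun ha 1) 3
  have a4 := congrFun (congrFun ha 1) 2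
  have d1 := congrFun (congrFun hd 0) 3
  have d2 := congrFun (congrFun hd 0) 2
  have d3 := congrFun (congrFun hd 1) 3
  have d4 := congrFun (congrFun hd 1) 2
  simp [Matrix.mul_apply, Fin.sum_univ_four] at c01 c02 c03 c04 c05 c06 c07 c08 b1 b2 b3 b4 a1 a2 a3 a4 d1 d2 d3 d4
  have e01 : A 0 1 = 0 := key _ (d2.trans a2.symm)
  have e32 : A 3 2 = 0 := a2.symm.trans e01
  have e10 : A 1 0 = 0 := b3.trans e32
  have e23 : A 2 3 = 0 := b2.symm.trans e01
  have e22 : A 2 2 = A 0 0 := b1.symm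
  have e11 : A 1 1 = A 0 0 := a4.trans e22
  have e33 : A 3 3 = A 0 0 := a1.symm
  ext i j
  fin_cases i <;> fin_cases j <;>
    simp [e01, e32, e10, e23, e22, e11, e33, key _ c01, key _ c02, key _ c03, key _ c04, key' _ c05,
      key' _ c06, key' _ c07, key' _ c08]

/-- A determinant one matrix inducing the identity is `±1`. -/
theorem eq_one_or_neg {A : M4} (hA : S 1 A) (hd : A.det = 1) : A = 1 ∨ A = -1 := by
  have h := scalar_of_comm (comm_t hA)
  have hd' : (A 0 0) ^ 4 = 1 := by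
    rw [h, Matrix.det_smul, Matrix.det_one, mul_one, Fintype.card_fin] at hd
    exact hd
  have : ∀ x : ZMod 7, x ^ 4 = 1 → x = 1 ∨ x = -1 := by decide
  rcases this _ hd' with h1 | h1
  · left; rw [h, h1, one_smul]
  · right; rw [h, h1, neg_smul, one_smul]

/-- The group `2·S₅`. -/
def K : Subgroup (SpecialLinearGroup (Fin 4) (ZMod 7)) where
  carrier := {A | ∃ σ, S σ A.1}
  one_mem' := ⟨1, S_one⟩
  mul_mem' := by
    rintro a b ⟨σ, hσ⟩ ⟨τ, hτ⟩
    exact ⟨σ * τ, S_mul hσ hτ⟩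
  inv_mem' := by
    rintro a ⟨σ, hσ⟩
    have h : a⁻¹ = a ^ (orderOf a - 1) := by
      rw [inv_eq_iff_mul_eq_one, ← pow_succ', Nat.sub_add_cancel (orderOf_pos a), pow_orderOf_eq_one]
    exact ⟨σ ^ (orderOf a - 1), by rw [h]; exact S_pow hσ _⟩

/-- The underlying matrix, as a homomorphism. -/
def v : SpecialLinearGroup (Fin 4) (ZMod 7) →* M4 where
  toFun := fun M => M.1
  map_one' := rfl
  map_mul' := fun _ _ => rfl

/-- Every permutation of five letters is induced. -/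
theorem exists_S (σ : Equiv.Perm (Fin 5)) : ∃ x : SpecialLinearGroup (Fin 4) (ZMod 7), S σ (v x) := by
  have h : σ ∈ Submonoid.closure (Set.range fun i : Fin 4 => Equiv.swap i.castSucc i.succ) := by
    rw [Equiv.Perm.mclosure_swap_castSucc_succ]; trivial
  induction h using Submonoid.closure_induction with
  | mem x hx =>
    obtain ⟨j, rfl⟩ := hx
    exact ⟨⟨t j, det_t j⟩, S_t j⟩
  | one => exact ⟨1, S_one⟩
  | mul x y _ _ hx hy =>
    obtain ⟨a, ha⟩ := hx
    obtain ⟨b, hb⟩ := hy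
    exact ⟨a * b, S_mul ha hb⟩

/-- The polynomial identities satisfied by the elements of `2·S₅`. -/
def P (A : M4) : Prop :=
  A = 1 ∨ A ^ 2 + A + 1 = 0 ∨ A ^ 4 + A ^ 3 + A ^ 2 + A + 1 = 0 ∨ A ^ 1 = -1 ∨ A ^ 2 = -1 ∨ A ^ 3 = -1 ∨
    A ^ 4 = -1 ∨ A ^ 5 = -1 ∨ A ^ 6 = -1

instance (A : M4) : Decidable (P A) := by unfold P; infer_instance

theorem P_conj (x y : SpecialLinearGroup (Fin 4) (ZMod 7)) (h : P (v y)) : P (v (x * y * x⁻¹)) := by
  have e : ∀ n : ℕ, (v (x * y * x⁻¹)) ^ n = v x * (v y) ^ n * v x⁻¹ := by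
    intro n
    rw [← map_pow, conj_pow, map_mul, map_mul, map_pow]
  have hx : v x * v x⁻¹ = 1 := by rw [← map_mul, mul_inv_cancel, map_one]
  have e1 : v (x * y * x⁻¹) = v x * v y * v x⁻¹ := by rw [map_mul, map_mul]
  have neg : ∀ n : ℕ, (v y) ^ n = -1 → (v (x * y * x⁻¹)) ^ n = -1 := by
    intro n hn
    rw [e, hn, mul_neg, mul_one, neg_mul, hx]
  unfold P at h ⊢
  rcases h with h | h | h | h | h | h | h | h | h
  · left; rw [e1, h, mul_one, hx]
  · right; left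
    have : (v (x * y * x⁻¹)) ^ 2 + v (x * y * x⁻¹) + 1 = v x * ((v y) ^ 2 + v y + 1) * v x⁻¹ := by
      rw [e, e1, mul_add, mul_add, add_mul, add_mul, mul_one, hx]
    rw [this, h, mul_zero, zero_mul]
  · right; right; left
    have : (v (x * y * x⁻¹)) ^ 4 + (v (x * y * x⁻¹)) ^ 3 + (v (x * y * x⁻¹)) ^ 2 + v (x * y * x⁻¹) + 1 =
        v x * ((v y) ^ 4 + (v y) ^ 3 + (v y) ^ 2 + v y + 1) * v x⁻¹ := by
      rw [e, e, e, e1]
      simp only [mul_add, add_mul, mul_one, hx]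
    rw [this, h, mul_zero, zero_mul]
  · exact Or.inr (Or.inr (Or.inr (Or.inl (neg 1 h))))
  · exact Or.inr (Or.inr (Or.inr (Or.inr (Or.inl (neg 2 h)))))
  · exact Or.inr (Or.inr (Or.inr (Or.inr (Or.inr (Or.inl (neg 3 h))))))
  · exact Or.inr (Or.inr (Or.inr (Or.inr (Or.inr (Or.inr (Or.inl (neg 4 h)))))))
  · exact Or.inr (Or.inr (Or.inr (Or.inr (Or.inr (Or.inr (Or.inr (Or.inl (neg 5 h))))))))
  · exact Or.inr (Or.inr (Or.inr (Or.inr (Or.inr (Or.inr (Or.inr (Or.inr (neg 6 h))))))))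

/-- All multisets of numbers `≥ 2` with sum at most `n`. -/
def parts : ℕ → ℕ → List (Multiset ℕ)
  | 0, _ => [0]
  | fuel + 1, n => 0 :: (List.range (n + 1)).flatMap fun a =>
      if 2 ≤ a then (parts fuel (n - a)).map fun s => a ::ₘ s else []

theorem mem_parts (fuel : ℕ) : ∀ (n : ℕ) (s : Multiset ℕ), n ≤ fuel → (∀ a ∈ s, 2 ≤ a) → s.sum ≤ n →
    s ∈ parts fuel n := by
  induction fuel with
  | zero =>
    intro n s hn h2 hs
    have hs0 : s = 0 := by
      apply Multiset.eq_zero_of_forall_notMem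
      intro a ha
      have h1 := h2 a ha
      have h3 := Multiset.le_sum_of_mem ha
      omega
    subst hs0
    simp [parts]
  | succ fuel ih =>
    intro n s hn h2 hs
    induction s using Multiset.induction_on with
    | empty => simp [parts]
    | cons a s _ =>
      have ha : 2 ≤ a := h2 a (Multiset.mem_cons_self a s)
      rw [Multiset.sum_cons] at hs
      have hrec := ih (n - a) s (by omega) (fun b hb => h2 b (Multiset.mem_cons_of_mem hb)) (by omega)
      rw [parts, List.mem_cons]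
      right
      rw [List.mem_flatMap]
      refine ⟨a, ?_, ?_⟩
      · rw [List.mem_range]; omega
      · rw [if_pos ha]
        exact List.mem_map_of_mem hrec

theorem cycleType_cases (σ : Equiv.Perm (Fin 5)) :
    σ.cycleType ∈ ([0, {2}, {3}, {4}, {5}, {2, 2}, {3, 2}] : List (Multiset ℕ)) := by
  have h := mem_parts 5 5 σ.cycleType le_rfl (fun a ha => Equiv.Perm.two_le_of_mem_cycleType ha)
    (by
      rw [Equiv.Perm.sum_cycleType]
      calc _ ≤ Fintype.card (Fin 5) := Finset.card_le_univ _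
        _ = 5 := Fintype.card_fin 5)
  have hall : ∀ s ∈ parts 5 5, s ∈ ([0, {2}, {3}, {4}, {5}, {2, 2}, {3, 2}] : List (Multiset ℕ)) := by decide
  exact hall _ h

/-- The lifts as elements of the special linear group. -/
def T (j : Fin 4) : SpecialLinearGroup (Fin 4) (ZMod 7) := ⟨t j, det_t j⟩

theorem v_T (j : Fin 4) : v (T j) = t j := rfl

/-- The word of lifts of adjacent transpositions. -/
def word (l : List (Fin 4)) : SpecialLinearGroup (Fin 4) (ZMod 7) := (l.map T).prod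

/-- The induced permutation of a word. -/
def wordPerm (l : List (Fin 4)) : Equiv.Perm (Fin 5) := (l.map fun j => Equiv.swap j.castSucc j.succ).prod

theorem S_word (l : List (Fin 4)) : S (wordPerm l) (v (word l)) := by
  induction l with
  | nil => exact S_one
  | cons j l ih =>
    have h1 : wordPerm (j :: l) = Equiv.swap j.castSucc j.succ * wordPerm l := by
      rw [wordPerm, List.map_cons, List.prod_cons]; rfl
    have h2 : word (j :: l) = T j * word l := by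
      rw [word, List.map_cons, List.prod_cons]; rfl
    rw [h1, h2, map_mul, v_T]
    exact S_mul (S_t j) ih

theorem v_word (l : List (Fin 4)) : v (word l) = (l.map t).prod := by
  rw [word, map_list_prod, List.map_map]
  rfl

theorem P_word : ∀ l ∈ ([[], [0], [0, 1], [0, 1, 2], [0, 1, 2, 3], [0, 2], [0, 1, 3]] : List (List (Fin 4))),
    P (l.map t).prod ∧ P (-(l.map t).prod) := by
  decide +kernel

theorem cycleType_word : ∀ m ∈ ([0, {2}, {3}, {4}, {5}, {2, 2}, {3, 2}] : List (Multiset ℕ)),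
    ∃ l ∈ ([[], [0], [0, 1], [0, 1, 2], [0, 1, 2, 3], [0, 2], [0, 1, 3]] : List (List (Fin 4))),
      (wordPerm l).cycleType = m := by
  decide +kernel

/-- Each element of `2·S₅` satisfies one of the polynomial identities. -/
theorem P_of_S {x : SpecialLinearGroup (Fin 4) (ZMod 7)} {σ : Equiv.Perm (Fin 5)} (hx : S σ (v x)) :
    P (v x) := by
  obtain ⟨l, hl, hlc⟩ := cycleType_word _ (cycleType_cases σ)
  obtain ⟨g, hg⟩ := isConj_iff.1 ((Equiv.Perm.isConj_iff_cycleType_eq).2 hlc)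
  obtain ⟨G, hG⟩ := exists_S g
  have hinv : ∀ (y : SpecialLinearGroup (Fin 4) (ZMod 7)) (τ : Equiv.Perm (Fin 5)), S τ (v y) →
      S τ⁻¹ (v y⁻¹) := by
    intro y τ hy i
    have h := hy (τ⁻¹ i)
    rw [show τ (τ⁻¹ i) = i by simp] at h
    have h1 : v y⁻¹ * v y = 1 := by rw [← map_mul, inv_mul_cancel, map_one]
    have h2 : v y * v y⁻¹ = 1 := by rw [← map_mul, mul_inv_cancel, map_one]
    have hs : (((Equiv.Perm.sign τ : ℤ) : ZMod 7)) * (((Equiv.Perm.sign τ : ℤ) : ZMod 7)) = 1 := by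
      rcases Int.units_eq_one_or (Equiv.Perm.sign τ) with h | h <;> rw [h] <;> decide
    calc v y⁻¹ * f i = v y⁻¹ * (f i * v y) * v y⁻¹ := by
          rw [mul_assoc, mul_assoc, h2, mul_one]
      _ = v y⁻¹ * ((((Equiv.Perm.sign τ : ℤ) : ZMod 7)) • (v y * f (τ⁻¹ i))) * v y⁻¹ := by
          rw [h, smul_smul, hs, one_smul]
      _ = (((Equiv.Perm.sign τ : ℤ) : ZMod 7)) • (f (τ⁻¹ i) * v y⁻¹) := by
          rw [mul_smul_comm, ← mul_assoc, h1, one_mul, smul_mul_assoc]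
      _ = _ := by rw [Equiv.Perm.sign_inv]
  -- the element `G⁻¹ x G` induces the representative
  have h1 : S (wordPerm l) (v (G⁻¹ * x * G)) := by
    have h := S_mul (S_mul (hinv G g hG) hx) hG
    rw [map_mul, map_mul]
    have e : g⁻¹ * σ * g = wordPerm l := by rw [← hg]; group
    rwa [e] at h
  have h2 : S 1 (v (G⁻¹ * x * G * (word l)⁻¹)) := by
    have h := S_mul h1 (hinv _ _ (S_word l))
    rw [mul_inv_cancel] at h
    rw [map_mul]
    exact h
  have h3 : v (G⁻¹ * x * G * (word l)⁻¹) = 1 ∨ v (G⁻¹ * x * G * (word l)⁻¹) = -1 :=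
    eq_one_or_neg h2 (G⁻¹ * x * G * (word l)⁻¹).2
  have h4 : P (v (G⁻¹ * x * G)) := by
    have e : v (G⁻¹ * x * G) = v (G⁻¹ * x * G * (word l)⁻¹) * v (word l) := by
      rw [← map_mul, inv_mul_cancel_right]
    obtain ⟨p1, p2⟩ := P_word l hl
    rcases h3 with h3 | h3
    · rw [e, h3, one_mul, v_word]; exact p1
    · rw [e, h3, neg_mul, one_mul, v_word]; exact p2
  have h5 := P_conj G _ h4
  have e : G * (G⁻¹ * x * G) * G⁻¹ = x := by group
  rwa [e] at h5

end Cfsg.Agent.H380.TwoS5
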